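/-
Non-abelian 2-subgroups, and trivial centres from Schur multipliers of odd order.
-/
import Mathlib
import Cfsg.Prelude.Def_KGroupFacts

set_option autoImplicit false

namespace CfsgLib.CTwoAbelian

/-- Some two elements generate a non-abelian 2-group. -/
def NonAbTwo (G : Type*) [Group G] : Prop :=
  ∃ u v : G, IsPGroup 2 (Subgroup.closure ({u, v} : Set G)) ∧ u * v ≠ v * u

namespace NonAbTwo

variable {G H : Type*} [Group G] [Group H]

theorem of_mem {P : Subgroup G} (hP : IsPGroup 2 P) {u v : G} (hu : u ∈ P) (hv : v ∈ P) (h : u * v ≠ v * u) :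
    NonAbTwo G := by
  refine ⟨u, v, hP.to_le ?_, h⟩
  rw [Subgroup.closure_le]
  rintro x (rfl | rfl)
  exacts [hu, hv]

theorem of_involutions {u v : G} (hu : u * u = 1) (hv : v * v = 1) {n : ℕ} (hn : (u * v) ^ 2 ^ n = 1)
    (h : (u * v) ^ 2 ≠ 1) : NonAbTwo G := by
  set r := u * v with hr
  have hR : IsPGroup 2 (Subgroup.zpowers r) := fun x => by
    obtain ⟨k, hk⟩ := Subgroup.mem_zpowers_iff.mp x.2
    refine ⟨n, Subtype.ext ?_⟩
    rw [SubmonoidClass.coe_pow, ← hk, ← zpow_natCast, ← zpow_mul, mul_comm, zpow_mul, zpow_natCast, hn, one_zpow]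
    rfl
  have hU : IsPGroup 2 (Subgroup.zpowers u) := fun x => by
    obtain ⟨k, hk⟩ := Subgroup.mem_zpowers_iff.mp x.2
    refine ⟨1, Subtype.ext ?_⟩
    rw [SubmonoidClass.coe_pow, ← hk, ← zpow_natCast, ← zpow_mul, mul_comm, zpow_mul, zpow_natCast, pow_one,
      pow_two, hu, one_zpow]
    rfl
  have hur : u * r * u⁻¹ = r⁻¹ := by
    rw [hr, _root_.mul_inv_rev, inv_eq_of_mul_eq_one_right hu, inv_eq_of_mul_eq_one_right hv, ← mul_assoc, hu,
      one_mul]
  have hnorm : Subgroup.zpowers u ≤ Subgroup.normalizer (Subgroup.zpowers r : Set G) := by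
    rw [Subgroup.zpowers_le, Subgroup.mem_normalizer_iff]
    intro x
    constructor
    · intro hx
      obtain ⟨k, hk⟩ := Subgroup.mem_zpowers_iff.mp hx
      rw [← hk, ← conj_zpow, hur]
      exact zpow_mem (inv_mem (Subgroup.mem_zpowers r)) k
    · intro hx
      obtain ⟨k, hk⟩ := Subgroup.mem_zpowers_iff.mp hx
      have e : x = u * r ^ k * u⁻¹ := by
        rw [hk, inv_eq_of_mul_eq_one_right hu]
        calc x = u * u * x * (u * u) := by rw [hu, one_mul, mul_one]
          _ = u * (u * x * u) * u := by simp only [mul_assoc]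
      rw [e, ← conj_zpow, hur]
      exact zpow_mem (inv_mem (Subgroup.mem_zpowers r)) k
  refine of_mem (hR.to_sup_of_normal_left' hU hnorm) (u := u) (v := r)
    (Subgroup.mem_sup_right (Subgroup.mem_zpowers u)) (Subgroup.mem_sup_left (Subgroup.mem_zpowers r)) ?_
  intro hc
  refine h ?_
  have e : r = r⁻¹ := by rw [← hur, hc, mul_inv_cancel_right]
  rw [pow_two]
  nth_rewrite 2 [e]
  exact mul_inv_cancel r

theorem map (h : NonAbTwo G) {f : G →* H} (hf : Function.Injective f) : NonAbTwo H := by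
  obtain ⟨u, v, hP, hne⟩ := h
  refine of_mem (hP.map f) (u := f u) (v := f v)
    (Subgroup.mem_map_of_mem f (Subgroup.subset_closure (by simp)))
    (Subgroup.mem_map_of_mem f (Subgroup.subset_closure (by simp))) ?_
  rw [← map_mul, ← map_mul]
  exact fun e => hne (hf e)

theorem equiv (h : NonAbTwo G) (e : G ≃* H) : NonAbTwo H := h.map (f := e.toMonoidHom) e.injective

/-- Two involutions modulo the centre whose product has order 4 modulo the centre. -/
theorem quot {u v g : G} (hu : u * u ∈ Subgroup.center G) (hv : v * v ∈ Subgroup.center G)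
    (h4 : (u * v) ^ 4 ∈ Subgroup.center G) (hg : g * (u * v) ^ 2 ≠ (u * v) ^ 2 * g) :
    NonAbTwo (G ⧸ Subgroup.center G) := by
  refine of_involutions (u := (u : G ⧸ Subgroup.center G)) (v := (v : G ⧸ Subgroup.center G)) (n := 2) ?_ ?_ ?_ ?_
  · rw [← QuotientGroup.mk_mul, QuotientGroup.eq_one_iff]; exact hu
  · rw [← QuotientGroup.mk_mul, QuotientGroup.eq_one_iff]; exact hv
  · rw [← QuotientGroup.mk_mul, ← QuotientGroup.mk_pow, QuotientGroup.eq_one_iff]; exact h4
  · rw [← QuotientGroup.mk_mul, ← QuotientGroup.mk_pow, Ne, QuotientGroup.eq_one_iff]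
    exact fun h => hg (Subgroup.mem_center_iff.mp h g)

theorem not_abelian [Finite G] (h : NonAbTwo G) :
    ¬ ∀ S : Sylow 2 G, IsMulCommutative ↥(S : Subgroup G) := by
  intro hab
  obtain ⟨u, v, hP, hne⟩ := h
  obtain ⟨S, hS⟩ := hP.exists_le_sylow
  haveI := hab S
  exact hne (congrArg Subtype.val (mul_comm' (⟨u, hS (Subgroup.subset_closure (by simp))⟩ : (S : Subgroup G))
    ⟨v, hS (Subgroup.subset_closure (by simp))⟩))

end NonAbTwo

universe u

/-- A perfect central extension with kernel a 2-group of a group with Schur multiplier of odd exponent is trivial. -/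
theorem center_eq_bot_of_exp {K : Type u} [Group K] [Finite K] {G₀ : Type} [Group G₀]
    (hperf : commutator K = ⊤) (hZ : IsPGroup 2 ↥(Subgroup.center K)) (e : K ⧸ Subgroup.center K ≃* G₀) {A : Type}
    [CommGroup A] {n : ℕ} (hn : Odd n) (hA : ∀ a : A, a ^ n = 1) (hm : Cfsg.HasSchurMultiplier G₀ A) :
    Subgroup.center K = ⊥ := by
  let m : Shrink.{0} K ≃* K := Shrink.mulEquiv
  haveI : Finite (Shrink.{0} K) := Finite.of_equiv K (equivShrink.{0} K)
  let σ : Shrink.{0} K →* G₀ :=
    (e.toMonoidHom.comp (QuotientGroup.mk' (Subgroup.center K))).comp m.toMonoidHom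
  have hker : ∀ x, x ∈ σ.ker ↔ m x ∈ Subgroup.center K := by
    intro x
    simp only [σ, MonoidHom.mem_ker, MonoidHom.coe_comp, Function.comp_apply, MulEquiv.coe_toMonoidHom,
      MulEquiv.map_eq_one_iff, QuotientGroup.mk'_apply, QuotientGroup.eq_one_iff]
  have hstem : Cfsg.IsStemExtension σ := by
    refine ⟨(e.surjective.comp (QuotientGroup.mk'_surjective _)).comp m.surjective, fun x hx => ?_, ?_⟩
    · rw [Subgroup.mem_center_iff]
      intro y
      exact m.injective (by rw [map_mul, map_mul]; exact Subgroup.mem_center_iff.mp ((hker x).mp hx) (m y))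
    · intro x _
      have h : (commutator (Shrink.{0} K)).map m.toMonoidHom = ⊤ := by
        rw [_root_.commutator_def, Subgroup.map_commutator, Subgroup.map_top_of_surjective _ m.surjective,
          ← _root_.commutator_def, hperf]
      exact (Subgroup.mem_map_iff_mem (show Function.Injective m.toMonoidHom from m.injective)).mp
        (h ▸ Subgroup.mem_top (m x))
  obtain ⟨π, hπ⟩ := hm.2 _ σ hstem
  refine eq_bot_iff.mpr fun z hz => ?_
  have hzk : m.symm z ∈ σ.ker := (hker _).mpr (by rwa [MulEquiv.apply_symm_apply])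
  obtain ⟨a, ha⟩ := hπ ⟨_, hzk⟩
  have hn0 : (⟨m.symm z, hzk⟩ : σ.ker) ^ n = 1 := by
    rw [← ha, ← map_pow, hA, map_one]
  have hzn : z ^ n = 1 := by
    have := congrArg (fun x : σ.ker => m x.1) hn0
    simpa using this
  obtain ⟨k, hk⟩ := hZ ⟨z, hz⟩
  have hzk2 : z ^ 2 ^ k = 1 := congrArg Subtype.val hk
  have hg : n.gcd (2 ^ k) = 1 := Nat.Coprime.pow_right k (Nat.coprime_two_right.mpr hn)
  have := pow_gcd_eq_one.mpr ⟨hzn, hzk2⟩
  rwa [hg, pow_one] at this

/-- A perfect central extension with kernel a 2-group of a group with Schur multiplier of odd order is trivial. -/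
theorem center_eq_bot {K : Type u} [Group K] [Finite K] {G₀ : Type} [Group G₀]
    (hperf : commutator K = ⊤) (hZ : IsPGroup 2 ↥(Subgroup.center K)) (e : K ⧸ Subgroup.center K ≃* G₀) {n : ℕ}
    (hn : Odd n) (hm : Cfsg.HasCyclicSchurMultiplier G₀ n) : Subgroup.center K = ⊥ :=
  center_eq_bot_of_exp hperf hZ e hn (fun a => by
    have : Multiplicative.toAdd (a ^ n) = 0 := by
      rw [toAdd_pow, nsmul_eq_mul, ZMod.natCast_self, zero_mul]
    exact this) hm

end CfsgLib.CTwoAbelian
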