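/-
Non-abelian 2-subgroups of small classical groups, coming from matrices over the prime field.
-/
import Mathlib
import Cfsg.Prelude.Def_Classical
import Cfsg.Agent.Lib.CTwoAbelian.Basic

set_option autoImplicit false
set_option maxRecDepth 100000

namespace CfsgLib.CTwoAbelian

open Matrix
open scoped commutatorElement

/-- Two involutions with product of order 4 whose square does not commute with `g`. -/
def Triple {G : Type*} [Group G] (u v g : G) : Prop :=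
  u * u = 1 ∧ v * v = 1 ∧ (u * v) ^ 4 = 1 ∧ g * (u * v) ^ 2 ≠ (u * v) ^ 2 * g

theorem Triple.nonAb {G H : Type*} [Group G] [Group H] {u v g : G} (h : Triple u v g) {f : G →* H}
    (hf : Function.Injective f) : NonAbTwo (H ⧸ Subgroup.center H) := by
  obtain ⟨h1, h2, h3, h4⟩ := h
  refine NonAbTwo.quot (u := f u) (v := f v) (g := f g) ?_ ?_ ?_ ?_
  · rw [← map_mul, h1, map_one]; exact one_mem _
  · rw [← map_mul, h2, map_one]; exact one_mem _
  · rw [← map_mul, ← map_pow, h3, map_one]; exact one_mem _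
  · rw [← map_mul, ← map_pow, ← map_mul, ← map_mul]
    exact fun e => h4 (hf e)

variable (p : ℕ) [Fact p.Prime] (F : Type*) [Field F] [CharP F p]

/-- The prime field inside the field. -/
abbrev emb : ZMod p →+* F := ZMod.castHom (dvd_refl p) F

theorem emb_injective : Function.Injective (emb p F) := (emb p F).injective

/-- Special linear groups over the prime field. -/
def slEmb (n : ℕ) : SpecialLinearGroup (Fin n) (ZMod p) →* SpecialLinearGroup (Fin n) F :=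
  SpecialLinearGroup.map (emb p F)

theorem slEmb_injective (n : ℕ) : Function.Injective (slEmb p F n) := by
  intro A B h
  apply Subtype.ext
  exact Matrix.map_injective (emb_injective p F) (congrArg Subtype.val h)

theorem sl_mul {n : ℕ} {R : Type*} [CommRing R] (A B : SpecialLinearGroup (Fin n) R) : (A * B).1 = A.1 * B.1 := rfl

theorem sl_one {n : ℕ} {R : Type*} [CommRing R] : (1 : SpecialLinearGroup (Fin n) R).1 = 1 := rfl

/-- The orthogonal matrices of determinant one over the prime field. -/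
def ortho (n : ℕ) : Subgroup (SpecialLinearGroup (Fin n) (ZMod p)) where
  carrier := {A | A.1ᵀ * A.1 = 1}
  one_mem' := by simp
  mul_mem' {A B} hA hB := by
    simp only [Set.mem_setOf_eq, sl_mul, transpose_mul] at *
    rw [Matrix.mul_assoc, ← Matrix.mul_assoc A.1ᵀ, hA, Matrix.one_mul, hB]
  inv_mem' {A} hA := by
    simp only [Set.mem_setOf_eq] at *
    have h1 : A.1 * A.1ᵀ = 1 := mul_eq_one_comm.mp hA
    have h2 : (A⁻¹).1 = A.1ᵀ := by
      calc (A⁻¹).1 = (A.1ᵀ * A.1) * (A⁻¹).1 := by rw [hA, Matrix.one_mul]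
        _ = A.1ᵀ := by rw [Matrix.mul_assoc, ← sl_mul, mul_inv_cancel, sl_one, Matrix.mul_one]
    rw [h2, transpose_transpose, h1]

theorem mem_SU {n : ℕ} (A : ↥(ortho p n)) : slEmb p F n A.1 ∈ Cfsg.SU n F p := by
  intro x y
  set M := A.1.1.map (emb p F) with hM
  have hMM : Mᵀ * M = 1 := by
    rw [hM, ← transpose_map, ← Matrix.map_mul, show A.1.1ᵀ * A.1.1 = 1 from A.2,
      Matrix.map_one _ (map_zero _) (map_one _)]
  show Cfsg.hermForm n F p (M *ᵥ x) (M *ᵥ y) = Cfsg.hermForm n F p x y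
  have hy : ∀ i, (M *ᵥ y) i ^ p = (M *ᵥ fun k => y k ^ p) i := by
    intro i
    simp only [Matrix.mulVec, dotProduct]
    rw [← frobenius_def, map_sum]
    refine Finset.sum_congr rfl fun k _ => ?_
    rw [frobenius_def, mul_pow, hM, Matrix.map_apply, ← map_pow, ZMod.pow_card]
  have : Cfsg.hermForm n F p (M *ᵥ x) (M *ᵥ y) = (M *ᵥ x) ⬝ᵥ (M *ᵥ fun k => y k ^ p) := by
    simp only [Cfsg.hermForm, hy, dotProduct]
  rw [this, dotProduct_mulVec, ← mulVec_transpose, mulVec_mulVec, hMM, one_mulVec]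
  rfl

/-- Orthogonal matrices of the prime field are unitary. -/
def suEmb (n : ℕ) : ↥(ortho p n) →* ↥(Cfsg.SU n F p) :=
  ((slEmb p F n).comp (ortho p n).subtype).codRestrict _ (mem_SU p F)

theorem suEmb_injective (n : ℕ) : Function.Injective (suEmb p F n) := fun A B h =>
  Subtype.ext (slEmb_injective p F n (congrArg Subtype.val h))

/-- A matrix and its inverse transpose. -/
def leviMat (n : ℕ) : SpecialLinearGroup (Fin n) (ZMod p) →* Matrix (Fin n ⊕ Fin n) (Fin n ⊕ Fin n) F where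
  toFun A := fromBlocks (A.1.map (emb p F)) 0 0 ((A⁻¹).1.map (emb p F))ᵀ
  map_one' := by
    rw [inv_one, sl_one, Matrix.map_one _ (map_zero _) (map_one _), transpose_one,
      fromBlocks_one]
  map_mul' A B := by
    rw [fromBlocks_multiply, _root_.mul_inv_rev, sl_mul, sl_mul,
      Matrix.map_mul, Matrix.map_mul, transpose_mul]
    simp

theorem leviMat_injective (n : ℕ) : Function.Injective (leviMat p F n) := by
  intro A B h
  apply Subtype.ext
  refine Matrix.map_injective (emb_injective p F) ?_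
  have := congrArg Matrix.toBlocks₁₁ h
  simpa [leviMat] using this

theorem levi_mem_symp (n : ℕ) (A : SpecialLinearGroup (Fin n) (ZMod p)) :
    leviMat p F n A ∈ Matrix.symplecticGroup (Fin n) F := by
  rw [SymplecticGroup.mem_iff]
  have h1 : A.1.map (emb p F) * (A⁻¹).1.map (emb p F) = 1 := by
    rw [← Matrix.map_mul, ← sl_mul, mul_inv_cancel, sl_one,
      Matrix.map_one _ (map_zero _) (map_one _)]
  simp only [leviMat, MonoidHom.coe_mk, OneHom.coe_mk, Matrix.J, fromBlocks_transpose, fromBlocks_multiply,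
    transpose_transpose, transpose_zero, Matrix.mul_zero, Matrix.zero_mul, zero_add, add_zero, Matrix.mul_neg,
    Matrix.mul_one, Matrix.neg_mul, neg_zero]
  rw [← transpose_mul, h1, transpose_one]

/-- The symplectic Levi map. -/
def spEmb (n : ℕ) : SpecialLinearGroup (Fin n) (ZMod p) →* ↥(Matrix.symplecticGroup (Fin n) F) :=
  (leviMat p F n).codRestrict _ (levi_mem_symp p F n)

theorem spEmb_injective (n : ℕ) : Function.Injective (spEmb p F n) := fun _ _ h =>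
  leviMat_injective p F n (congrArg Subtype.val h)

theorem levi_mem_iso (n : ℕ) (A : SpecialLinearGroup (Fin n) (ZMod p)) :
    (leviMat p F n).toHomUnits A ∈ Cfsg.isometryGroup F (Cfsg.quadFormPlus n F) := by
  intro v w
  show Cfsg.quadFormPlus n F (leviMat p F n A *ᵥ v) = Cfsg.quadFormPlus n F v
  have h1 : ((A⁻¹).1.map (emb p F) * A.1.map (emb p F)) = 1 := by
    rw [← Matrix.map_mul, ← sl_mul, inv_mul_cancel, sl_one,
      Matrix.map_one _ (map_zero _) (map_one _)]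
  simp only [leviMat, MonoidHom.coe_mk, OneHom.coe_mk, fromBlocks_mulVec, Matrix.zero_mulVec, add_zero, zero_add,
    Cfsg.quadFormPlus, Sum.elim_inl, Sum.elim_inr]
  show (A.1.map (emb p F) *ᵥ (v ∘ Sum.inl)) ⬝ᵥ (((A⁻¹).1.map (emb p F))ᵀ *ᵥ (v ∘ Sum.inr)) = _
  rw [mulVec_transpose, dotProduct_comm, ← dotProduct_mulVec, mulVec_mulVec, h1, one_mulVec, dotProduct_comm]
  rfl

/-- The orthogonal Levi map. -/
def isoEmb (n : ℕ) : SpecialLinearGroup (Fin n) (ZMod p) →* ↥(Cfsg.isometryGroup F (Cfsg.quadFormPlus n F)) :=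
  (leviMat p F n).toHomUnits.codRestrict _ (levi_mem_iso p F n)

theorem isoEmb_injective (n : ℕ) : Function.Injective (isoEmb p F n) := fun _ _ h =>
  leviMat_injective p F n (congrArg (fun x : (Matrix (Fin n ⊕ Fin n) (Fin n ⊕ Fin n) F)ˣ => x.val) (congrArg Subtype.val h))

omit [Fact p.Prime]

/-- An element of the special linear group from a matrix. -/
abbrev mk {n : ℕ} (M : Matrix (Fin n) (Fin n) (ZMod p)) (h : M.det = 1) : SpecialLinearGroup (Fin n) (ZMod p) :=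
  ⟨M, h⟩

theorem tripleThree : ∃ u v g : SpecialLinearGroup (Fin 3) (ZMod 2), Triple u v g := by
  refine ⟨⟨!![1, 1, 0; 0, 1, 0; 0, 0, 1], by decide +kernel⟩, ⟨!![1, 0, 0; 0, 1, 1; 0, 0, 1], by decide +kernel⟩,
    ⟨!![1, 0, 0; 0, 1, 0; 1, 0, 1], by decide +kernel⟩, ?_⟩
  refine ⟨?_, ?_, ?_, ?_⟩ <;> decide +kernel

theorem tripleFour : ∃ u v g : SpecialLinearGroup (Fin 4) (ZMod 2),
    (u ∈ commutator _ ∧ v ∈ commutator _ ∧ g ∈ commutator _) ∧ Triple u v g := by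
  let e01 : SpecialLinearGroup (Fin 4) (ZMod 2) := ⟨!![1, 1, 0, 0; 0, 1, 0, 0; 0, 0, 1, 0; 0, 0, 0, 1], by decide +kernel⟩
  let e12 : SpecialLinearGroup (Fin 4) (ZMod 2) := ⟨!![1, 0, 0, 0; 0, 1, 1, 0; 0, 0, 1, 0; 0, 0, 0, 1], by decide +kernel⟩
  let e21 : SpecialLinearGroup (Fin 4) (ZMod 2) := ⟨!![1, 0, 0, 0; 0, 1, 0, 0; 0, 1, 1, 0; 0, 0, 0, 1], by decide +kernel⟩
  let e13 : SpecialLinearGroup (Fin 4) (ZMod 2) := ⟨!![1, 0, 0, 0; 0, 1, 0, 1; 0, 0, 1, 0; 0, 0, 0, 1], by decide +kernel⟩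
  let e31 : SpecialLinearGroup (Fin 4) (ZMod 2) := ⟨!![1, 0, 0, 0; 0, 1, 0, 0; 0, 0, 1, 0; 0, 1, 0, 1], by decide +kernel⟩
  let e10 : SpecialLinearGroup (Fin 4) (ZMod 2) := ⟨!![1, 0, 0, 0; 1, 1, 0, 0; 0, 0, 1, 0; 0, 0, 0, 1], by decide +kernel⟩
  refine ⟨⁅e01, e12⁆, ⁅e21, e13⁆, ⁅e31, e10⁆,
    ⟨Subgroup.commutator_mem_commutator (Subgroup.mem_top _) (Subgroup.mem_top _),
      Subgroup.commutator_mem_commutator (Subgroup.mem_top _) (Subgroup.mem_top _),
      Subgroup.commutator_mem_commutator (Subgroup.mem_top _) (Subgroup.mem_top _)⟩, ?_⟩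
  refine ⟨?_, ?_, ?_, ?_⟩ <;> decide +kernel

theorem orthoTwoFour : ∃ u v g : ↥(ortho 2 4), Triple u v g := by
  refine ⟨⟨⟨!![0, 1, 0, 0; 1, 0, 0, 0; 0, 0, 0, 1; 0, 0, 1, 0], by decide +kernel⟩,
      show (_ : Matrix (Fin 4) (Fin 4) (ZMod 2)) = 1 by decide +kernel⟩,
    ⟨⟨!![1, 0, 0, 0; 0, 0, 1, 0; 0, 1, 0, 0; 0, 0, 0, 1], by decide +kernel⟩,
      show (_ : Matrix (Fin 4) (Fin 4) (ZMod 2)) = 1 by decide +kernel⟩,
    ⟨⟨!![0, 1, 0, 0; 1, 0, 0, 0; 0, 0, 1, 0; 0, 0, 0, 1], by decide +kernel⟩,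
      show (_ : Matrix (Fin 4) (Fin 4) (ZMod 2)) = 1 by decide +kernel⟩, ?_⟩
  refine ⟨?_, ?_, ?_, ?_⟩ <;> decide +kernel

theorem orthoTwoSix : ∃ u v g : ↥(ortho 2 6), Triple u v g := by
  refine ⟨⟨⟨!![0, 1, 0, 0, 0, 0; 1, 0, 0, 0, 0, 0; 0, 0, 0, 1, 0, 0; 0, 0, 1, 0, 0, 0; 0, 0, 0, 0, 1, 0;
        0, 0, 0, 0, 0, 1], by decide +kernel⟩, show (_ : Matrix (Fin 6) (Fin 6) (ZMod 2)) = 1 by decide +kernel⟩,
    ⟨⟨!![1, 0, 0, 0, 0, 0; 0, 0, 1, 0, 0, 0; 0, 1, 0, 0, 0, 0; 0, 0, 0, 1, 0, 0; 0, 0, 0, 0, 1, 0;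
        0, 0, 0, 0, 0, 1], by decide +kernel⟩, show (_ : Matrix (Fin 6) (Fin 6) (ZMod 2)) = 1 by decide +kernel⟩,
    ⟨⟨!![0, 1, 0, 0, 0, 0; 1, 0, 0, 0, 0, 0; 0, 0, 1, 0, 0, 0; 0, 0, 0, 1, 0, 0; 0, 0, 0, 0, 1, 0;
        0, 0, 0, 0, 0, 1], by decide +kernel⟩, show (_ : Matrix (Fin 6) (Fin 6) (ZMod 2)) = 1 by decide +kernel⟩, ?_⟩
  refine ⟨?_, ?_, ?_, ?_⟩ <;> decide +kernel

theorem orthoThreeFour : ∃ u v g : ↥(ortho 3 4), Triple u v g := by
  refine ⟨⟨⟨!![0, 1, 0, 0; 1, 0, 0, 0; 0, 0, 0, 1; 0, 0, 1, 0], by decide +kernel⟩,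
      show (_ : Matrix (Fin 4) (Fin 4) (ZMod 3)) = 1 by decide +kernel⟩,
    ⟨⟨!![2, 0, 0, 0; 0, 1, 0, 0; 0, 0, 0, 1; 0, 0, 1, 0], by decide +kernel⟩,
      show (_ : Matrix (Fin 4) (Fin 4) (ZMod 3)) = 1 by decide +kernel⟩,
    ⟨⟨!![0, 0, 0, 1; 0, 0, 1, 0; 0, 1, 0, 0; 1, 0, 0, 0], by decide +kernel⟩,
      show (_ : Matrix (Fin 4) (Fin 4) (ZMod 3)) = 1 by decide +kernel⟩, ?_⟩
  refine ⟨?_, ?_, ?_, ?_⟩ <;> decide +kernel

variable {G : Type*} [Group G] {K : Type*} [Field K] [Fintype K]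

theorem charP_two (h : Fintype.card K = 2 ∨ Fintype.card K = 4 ∨ Fintype.card K = 8) : CharP K 2 := by
  haveI := Fact.mk Nat.prime_two
  rcases h with h | h | h
  · exact charP_of_card_eq_prime_pow (f := 1) h
  · exact charP_of_card_eq_prime_pow (f := 2) h
  · exact charP_of_card_eq_prime_pow (f := 3) h

/-- The centre of the projective special linear group is the quotient used by Mathlib. -/
theorem psl_nonAb {n : ℕ} {p : ℕ} [Fact p.Prime] [CharP K p] {u v g : SpecialLinearGroup (Fin n) (ZMod p)}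
    (h : Triple u v g) : NonAbTwo (ProjectiveSpecialLinearGroup (Fin n) K) :=
  h.nonAb (slEmb_injective p K n)

theorem pomega_nonAb [CharP K 2] :
    NonAbTwo (Cfsg.POmega K (Cfsg.quadFormPlus 4 K)) := by
  haveI := Fact.mk Nat.prime_two
  obtain ⟨u, v, g, ⟨hu, hv, hg⟩, h⟩ := tripleFour
  let f : ↥(commutator (SpecialLinearGroup (Fin 4) (ZMod 2))) →* ↥(Cfsg.Omega K (Cfsg.quadFormPlus 4 K)) :=
    ((isoEmb 2 K 4).comp (commutator _).subtype).codRestrict _ fun x => by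
      have hle : (commutator (SpecialLinearGroup (Fin 4) (ZMod 2))).map (isoEmb 2 K 4) ≤
          commutator ↥(Cfsg.isometryGroup K (Cfsg.quadFormPlus 4 K)) := by
        rw [_root_.commutator_def, Subgroup.map_commutator]
        exact Subgroup.commutator_mono le_top le_top
      exact hle (Subgroup.mem_map_of_mem (isoEmb 2 K 4) x.2)
  refine Triple.nonAb (u := ⟨u, hu⟩) (v := ⟨v, hv⟩) (g := ⟨g, hg⟩) ?_ (f := f) ?_
  · obtain ⟨h1, h2, h3, h4⟩ := h
    exact ⟨Subtype.ext h1, Subtype.ext h2, Subtype.ext h3, fun e => h4 (congrArg Subtype.val e)⟩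
  · exact fun A B e => Subtype.ext (isoEmb_injective 2 K 4 (congrArg Subtype.val e))

end CfsgLib.CTwoAbelian
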