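/-
PSL₂(q): a non-abelian 2-subgroup when 2 is a square, and the only double cover of PSL₂(5).
-/
import Cfsg.Agent.S2117
import Cfsg.Agent.S0252
import Cfsg.Agent.S0253
import Cfsg.Agent.Lib.StSL.Two
import Cfsg.Agent.Lib.CTwoAbelian.Classical

set_option autoImplicit false

namespace CfsgLib.CTwoAbelian

open Matrix
open scoped commutatorElement

universe u

theorem psl_two_nonAb {F : Type*} [Field F] [Fintype F] (h2 : (2 : F) ≠ 0) (hsq : IsSquare (2 : F)) :
    NonAbTwo (ProjectiveSpecialLinearGroup (Fin 2) F) := by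
  classical
  obtain ⟨s, hs⟩ := hsq
  have hodd : ringChar F ≠ 2 := fun h => h2 (by
    haveI : CharP F 2 := h ▸ ringChar.charP F
    exact CharTwo.two_eq_zero)
  have hchar : Fintype.card F % 2 = 1 := FiniteField.odd_card_of_char_ne_two hodd
  have h2i : (2 : F)⁻¹ ≠ 0 := inv_ne_zero h2
  obtain ⟨Y, x, hYx⟩ := FiniteField.exists_root_sum_quadratic
    (f := (Polynomial.X ^ 2 + Polynomial.C 1 : Polynomial F))
    (g := Polynomial.C (2 : F)⁻¹ * Polynomial.X ^ 2)
    (Polynomial.degree_X_pow_add_C (by norm_num) _) (Polynomial.degree_C_mul_X_pow 2 h2i) hchar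
  simp only [Polynomial.eval_add, Polynomial.eval_pow, Polynomial.eval_X, Polynomial.eval_C,
    Polynomial.eval_mul] at hYx
  set y := Y + s * x * (2 : F)⁻¹ with hy
  have hhalf : (2 : F) * (2 : F)⁻¹ = 1 := mul_inv_cancel₀ h2
  have key : -(x * x) - y * (y - s * x) = 1 := by
    rw [hy]
    linear_combination -hYx - (s * x * Y) * hhalf + (x * x * ((2 : F)⁻¹ - 1) * (2 : F)⁻¹) * hs -
      (x * x * ((2 : F)⁻¹ - 1)) * hhalf
  let a : SpecialLinearGroup (Fin 2) F := ⟨!![0, -1; 1, s], by simp [det_fin_two]⟩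
  let w : SpecialLinearGroup (Fin 2) F := ⟨!![x, y; y - s * x, -x], by
    rw [det_fin_two]; simp only [Matrix.of_apply, cons_val', cons_val_zero, cons_val_one, empty_val', cons_val_fin_one]
    linear_combination key⟩
  let g : SpecialLinearGroup (Fin 2) F := ⟨!![1, 1; 0, 1], by simp [det_fin_two]⟩
  let m : SpecialLinearGroup (Fin 2) F := ⟨!![-1, 0; 0, -1], by simp [det_fin_two]⟩
  have hm : m ∈ Subgroup.center (SpecialLinearGroup (Fin 2) F) := by
    rw [Subgroup.mem_center_iff]
    intro A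
    apply Subtype.ext
    show A.1 * !![(-1 : F), 0; 0, -1] = !![(-1 : F), 0; 0, -1] * A.1
    ext i j
    fin_cases i <;> fin_cases j <;> simp [Matrix.mul_apply, Fin.sum_univ_two]
  have e1 : w * w = m := Subtype.ext (by
    show !![x, y; y - s * x, -x] * !![x, y; y - s * x, -x] = !![(-1 : F), 0; 0, -1]
    ext i j
    fin_cases i <;> fin_cases j <;> simp [Matrix.mul_apply, Fin.sum_univ_two]
    · linear_combination -key
    · ring
    · ring
    · linear_combination -key)
  have e2 : w * a * (w * a) = m := Subtype.ext (by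
    show !![x, y; y - s * x, -x] * !![(0 : F), -1; 1, s] * (!![x, y; y - s * x, -x] * !![(0 : F), -1; 1, s]) =
      !![(-1 : F), 0; 0, -1]
    ext i j
    fin_cases i <;> fin_cases j <;> simp [Matrix.mul_apply, Fin.sum_univ_two]
    · linear_combination -key
    · ring
    · ring
    · linear_combination -key)
  have e4 : (a * a) * (a * a) = m := Subtype.ext (by
    show !![(0 : F), -1; 1, s] * !![(0 : F), -1; 1, s] * (!![(0 : F), -1; 1, s] * !![(0 : F), -1; 1, s]) =
      !![(-1 : F), 0; 0, -1]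
    ext i j
    fin_cases i <;> fin_cases j <;> simp [Matrix.mul_apply, Fin.sum_univ_two]
    · linear_combination hs
    · linear_combination s * hs
    · linear_combination -s * hs
    · linear_combination (1 - s * s) * hs)
  have hmc : ∀ A, Commute m A := fun A => (Subgroup.mem_center_iff.mp hm A).symm
  have euv : w * (w * a) = m * a := by rw [← mul_assoc, e1]
  refine NonAbTwo.quot (u := w) (v := w * a) (g := g) ?_ ?_ ?_ ?_
  · rw [e1]; exact hm
  · rw [e2]; exact hm
  · rw [euv, (hmc a).mul_pow, show a ^ 4 = a * a * (a * a) by simp only [pow_succ, pow_zero, one_mul, mul_assoc], e4]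
    exact mul_mem (pow_mem hm _) hm
  · rw [euv, (hmc a).mul_pow, pow_two m, ← e1]
    intro h
    rw [pow_two a] at h
    have hc : g * (a * a) = (a * a) * g := by
      rw [e1] at h
      have h' : m * m * (g * (a * a)) = m * m * (a * a * g) := by
        rw [← mul_assoc, ((hmc g).mul_left (hmc g)).eq, mul_assoc, h]
        simp only [mul_assoc]
      exact mul_left_cancel h'
    have h01 := congrArg (fun A : SpecialLinearGroup (Fin 2) F => A.1 0 0) hc
    change (!![(1 : F), 1; 0, 1] * (!![(0 : F), -1; 1, s] * !![(0 : F), -1; 1, s])) 0 0 =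
      (!![(0 : F), -1; 1, s] * !![(0 : F), -1; 1, s] * !![(1 : F), 1; 0, 1]) 0 0 at h01
    simp [Matrix.mul_apply, Fin.sum_univ_two] at h01
    have hs0 : s ≠ 0 := fun h0 => h2 (by rw [hs, h0, mul_zero])
    exact hs0 (by linear_combination h01)

theorem two_isSquare {F : Type*} [Field F] [Fintype F] (h : Fintype.card F % 8 = 1 ∨ Fintype.card F % 8 = 7) :
    (2 : F) ≠ 0 ∧ IsSquare (2 : F) := by
  constructor
  · intro h0
    have hc : ringChar F = 2 := by
      have := ringChar.dvd (R := F) (x := 2) (by exact_mod_cast h0)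
      rcases (Nat.dvd_prime Nat.prime_two).mp this with h1 | h1
      · exact absurd h1 (CharP.ringChar_ne_one)
      · exact h1
    have := (FiniteField.even_card_iff_char_two (F := F)).mp hc
    omega
  · exact (FiniteField.isSquare_two_iff).mpr (by omega)

/-- A perfect central extension is covered by any perfect group with trivial multiplier over the same quotient. -/
theorem exists_cover {S : Type} [Group S] [Finite S] (hS : commutator S = ⊤)
    (hm : Cfsg.HasCyclicSchurMultiplier S 1) {Q : Type} [Group Q] {π : S →* Q} (hπ : Function.Surjective π)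
    (hπc : π.ker ≤ Subgroup.center S) {K : Type u} [Group K] [Finite K] (hK : commutator K = ⊤) {σ : K →* Q}
    (hσ : Function.Surjective σ) (hσc : σ.ker ≤ Subgroup.center K) :
    ∃ f : S →* K, Function.Surjective f ∧ σ.comp f = π := by
  let m : Shrink.{0} K ≃* K := Shrink.mulEquiv
  haveI : Finite (Shrink.{0} K) := Finite.of_equiv K (equivShrink.{0} K)
  let τ : Shrink.{0} K →* Q := σ.comp m.toMonoidHom
  let P : Subgroup (Shrink.{0} K × S) :=
    { carrier := {p | τ p.1 = π p.2}
      one_mem' := by simp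
      mul_mem' := fun {a b} ha hb => by
        simp only [Set.mem_setOf_eq, Prod.fst_mul, Prod.snd_mul, map_mul] at *; rw [ha, hb]
      inv_mem' := fun {a} ha => by
        simp only [Set.mem_setOf_eq, Prod.fst_inv, Prod.snd_inv, map_inv] at *; rw [ha] }
  set E : Subgroup (Shrink.{0} K × S) := ⁅P, P⁆ with hE
  have hEP : E ≤ P := Subgroup.commutator_le.mpr fun a ha b hb =>
    mul_mem (mul_mem (mul_mem ha hb) (inv_mem ha)) (inv_mem hb)
  have hsnd : P.map (MonoidHom.snd _ _) = ⊤ := by
    rw [eq_top_iff]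
    intro s _
    obtain ⟨k, hk⟩ := hσ (π s)
    exact ⟨(m.symm k, s), show σ (m (m.symm k)) = π s by rw [MulEquiv.apply_symm_apply, hk], rfl⟩
  have hfst : P.map (MonoidHom.fst _ _) = ⊤ := by
    rw [eq_top_iff]
    intro k _
    obtain ⟨s, hs⟩ := hπ (τ k)
    exact ⟨(k, s), hs.symm, rfl⟩
  have hKs : commutator (Shrink.{0} K) = ⊤ := by
    have h : (commutator K).map m.symm.toMonoidHom = commutator (Shrink.{0} K) := by
      rw [_root_.commutator_def, Subgroup.map_commutator, Subgroup.map_top_of_surjective _ m.symm.surjective,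
        ← _root_.commutator_def]
    rw [← h, hK, Subgroup.map_top_of_surjective _ m.symm.surjective]
  have hEs : E.map (MonoidHom.snd _ _) = ⊤ := by rw [hE, Subgroup.map_commutator, hsnd, ← _root_.commutator_def, hS]
  have hEf : E.map (MonoidHom.fst _ _) = ⊤ := by rw [hE, Subgroup.map_commutator, hfst, ← _root_.commutator_def, hKs]
  -- every element of `P` is an element of `E` times a central one
  have hdec : ∀ p ∈ P, ∃ e ∈ E, ∀ q ∈ P, Commute (e⁻¹ * p) q := by
    intro p hp
    obtain ⟨e, he, hes⟩ := hEs.ge (Subgroup.mem_top p.2)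
    refine ⟨e, he, fun q _ => ?_⟩
    have h1 : (e⁻¹ * p).2 = 1 := by
      show e.2⁻¹ * p.2 = 1
      rw [show e.2 = p.2 from hes, inv_mul_cancel]
    have h2 : τ (e⁻¹ * p).1 = 1 := by
      rw [show τ (e⁻¹ * p).1 = π (e⁻¹ * p).2 from mul_mem (inv_mem (hEP he)) hp, h1, map_one]
    have h3 : m (e⁻¹ * p).1 ∈ Subgroup.center K := hσc h2
    generalize e⁻¹ * p = z at h1 h3
    refine Prod.ext ?_ ?_
    · refine m.injective ?_
      rw [Prod.fst_mul, Prod.fst_mul, map_mul, map_mul]
      exact (Subgroup.mem_center_iff.mp h3 (m q.1)).symm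
    · rw [Prod.snd_mul, Prod.snd_mul, h1, one_mul, mul_one]
  have hperf : ⁅E, E⁆ = E := by
    refine le_antisymm (Subgroup.commutator_le.mpr fun a ha b hb =>
      mul_mem (mul_mem (mul_mem ha hb) (inv_mem ha)) (inv_mem hb)) ?_
    conv_lhs => rw [hE]
    rw [Subgroup.commutator_le]
    intro a ha b hb
    obtain ⟨e, he, hec⟩ := hdec a ha
    obtain ⟨d, hd, hdc⟩ := hdec b hb
    have heP := hEP he
    have hdP := hEP hd
    obtain ⟨z, hz⟩ : ∃ z, z = e⁻¹ * a := ⟨_, rfl⟩
    obtain ⟨z', hz'⟩ : ∃ z', z' = d⁻¹ * b := ⟨_, rfl⟩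
    have za : a = e * z := by rw [hz, mul_inv_cancel_left]
    have zb : b = d * z' := by rw [hz', mul_inv_cancel_left]
    have hzP : z ∈ P := hz ▸ mul_mem (inv_mem heP) ha
    have c1 : Commute z b := hz ▸ hec b hb
    have c2 : Commute z' e := hz' ▸ hdc e heP
    have : ⁅a, b⁆ = ⁅e, d⁆ := by
      rw [commutatorElement_def, commutatorElement_def, za, _root_.mul_inv_rev]
      calc e * z * b * (z⁻¹ * e⁻¹) * b⁻¹ = e * (z * b * z⁻¹) * e⁻¹ * b⁻¹ := by group
        _ = e * b * e⁻¹ * b⁻¹ := by rw [c1.eq, mul_inv_cancel_right]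
        _ = e * d * (z' * e⁻¹ * z'⁻¹) * d⁻¹ := by rw [zb]; group
        _ = e * d * e⁻¹ * d⁻¹ := by rw [(c2.inv_right).eq, mul_inv_cancel_right]
    rw [this]
    exact Subgroup.commutator_mem_commutator he hd
  let r : ↥E →* S := (MonoidHom.snd _ _).comp E.subtype
  have hr : Function.Surjective r := fun s => by
    obtain ⟨e, he, hes⟩ := hEs.ge (Subgroup.mem_top s)
    exact ⟨⟨e, he⟩, hes⟩
  have hperf' : commutator ↥E = ⊤ := by
    refine Subgroup.map_injective E.subtype_injective ?_
    rw [_root_.commutator_def, Subgroup.map_commutator, ← MonoidHom.range_eq_map, Subgroup.range_subtype, hperf]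
  have hstem : Cfsg.IsStemExtension r := by
    refine ⟨hr, fun e he => ?_, by rw [hperf']; exact le_top⟩
    rw [Subgroup.mem_center_iff]
    intro q
    apply Subtype.ext
    refine Prod.ext ?_ ?_
    · refine m.injective ?_
      rw [Subgroup.coe_mul, Subgroup.coe_mul, Prod.fst_mul, Prod.fst_mul, map_mul, map_mul]
      refine Subgroup.mem_center_iff.mp (hσc ?_) (m q.1.1)
      show τ e.1.1 = 1
      rw [show τ e.1.1 = π e.1.2 from hEP e.2, show e.1.2 = 1 from he, map_one]
    · rw [Subgroup.coe_mul, Subgroup.coe_mul, Prod.snd_mul, Prod.snd_mul, show e.1.2 = 1 from he, one_mul, mul_one]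
  obtain ⟨χ, hχ⟩ := hm.2 _ r hstem
  have hinj : Function.Injective r := (injective_iff_map_eq_one r).mpr fun e he => by
    obtain ⟨x, hx⟩ := hχ ⟨e, he⟩
    rw [Subsingleton.elim x 1, map_one] at hx
    exact congrArg Subtype.val hx.symm
  let eqv : S ≃* ↥E := (MulEquiv.ofBijective r ⟨hinj, hr⟩).symm
  refine ⟨(m.toMonoidHom.comp ((MonoidHom.fst _ _).comp E.subtype)).comp eqv.toMonoidHom, fun k => ?_, ?_⟩
  · obtain ⟨e, he, hek⟩ := hEf.ge (Subgroup.mem_top (m.symm k))
    refine ⟨eqv.symm ⟨e, he⟩, ?_⟩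
    show m ((eqv (eqv.symm ⟨e, he⟩) : ↥E) : Shrink.{0} K × S).1 = k
    rw [MulEquiv.apply_symm_apply, show (MonoidHom.fst _ _) e = e.1 from rfl] at *
    rw [hek, MulEquiv.apply_symm_apply]
  · refine MonoidHom.ext fun s => ?_
    show σ (m (eqv s).1.1) = π s
    rw [show σ (m (eqv s).1.1) = π (eqv s).1.2 from hEP (eqv s).2]
    exact congrArg π (eqv.symm_apply_apply s)

/-- A nontrivial perfect central extension of PSL₂(4) ≅ PSL₂(5) by a 2-group is SL₂(5). -/
theorem sl_two_five {K : Type u} [Group K] [Finite K] (hK : commutator K = ⊤) (hne : Subgroup.center K ≠ ⊥)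
    {F : Type} [Field F] [Fintype F] (hF : Fintype.card F = 5)
    (e : K ⧸ Subgroup.center K ≃* ProjectiveSpecialLinearGroup (Fin 2) F) :
    Nonempty (K ≃* SpecialLinearGroup (Fin 2) F) := by
  classical
  obtain ⟨f, hf, hcomp⟩ := exists_cover (CfsgLib.StSL.perfect_SL2 (by omega))
    (Cfsg.Agent.S2117.result (F := F) (by omega) (by omega))
    (π := QuotientGroup.mk' (Subgroup.center (SpecialLinearGroup (Fin 2) F)))
    (QuotientGroup.mk'_surjective _) (by rw [QuotientGroup.ker_mk']) hK
    (σ := e.toMonoidHom.comp (QuotientGroup.mk' (Subgroup.center K)))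
    (e.surjective.comp (QuotientGroup.mk'_surjective _))
    (fun k hk => by
      simpa [MonoidHom.mem_ker] using hk)
  have hker : ∀ x, f x = 1 → x ∈ Subgroup.center (SpecialLinearGroup (Fin 2) F) := by
    intro x hx
    have h := (DFunLike.congr_fun hcomp x).symm
    rw [MonoidHom.comp_apply, hx, map_one] at h
    exact (QuotientGroup.eq_one_iff x).mp h
  obtain ⟨z, hz, hz1⟩ : ∃ z ∈ Subgroup.center K, z ≠ 1 := by
    by_contra h
    push Not at h
    exact hne (eq_bot_iff.mpr h)
  obtain ⟨x, rfl⟩ := hf z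
  have hxc : x ∈ Subgroup.center (SpecialLinearGroup (Fin 2) F) := by
    have h := DFunLike.congr_fun hcomp x
    rw [MonoidHom.comp_apply, MonoidHom.comp_apply, QuotientGroup.mk'_apply,
      (QuotientGroup.eq_one_iff (f x)).mpr hz, map_one] at h
    exact (QuotientGroup.eq_one_iff x).mp h.symm
  refine ⟨(MulEquiv.ofBijective f ⟨(injective_iff_map_eq_one f).mpr fun y hy => ?_, hf⟩).symm⟩
  have hyc := hker y hy
  obtain ⟨r, hr, hyr⟩ := (Matrix.SpecialLinearGroup.mem_center_iff).mp hyc
  obtain ⟨t, ht, hxt⟩ := (Matrix.SpecialLinearGroup.mem_center_iff).mp hxc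
  rw [Fintype.card_fin] at hr ht
  have hx1 : x ≠ 1 := fun h => hz1 (by rw [h, map_one])
  rcases sq_eq_one_iff.mp hr with h1 | h1
  · exact Subtype.ext (by rw [← hyr, h1, map_one]; rfl)
  · exfalso
    rcases sq_eq_one_iff.mp ht with h2 | h2
    · exact hx1 (Subtype.ext (by rw [← hxt, h2, map_one]; rfl))
    · exact hz1 (by rw [show x = y from Subtype.ext (by rw [← hxt, ← hyr, h1, h2]), hy])

/-- PSL₂(4) is PSL₂(5). -/
theorem psl_four_five {F : Type} [Field F] [Fintype F] (hF : Fintype.card F = 4) [Fact (Nat.Prime 5)] :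
    Nonempty (ProjectiveSpecialLinearGroup (Fin 2) F ≃* ProjectiveSpecialLinearGroup (Fin 2) (ZMod 5)) := by
  obtain ⟨a⟩ := Cfsg.Agent.S0252.result hF
  obtain ⟨b⟩ := Cfsg.Agent.S0253.result (F := ZMod 5) (ZMod.card 5)
  exact ⟨a.trans b.symm⟩

end CfsgLib.CTwoAbelian
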